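import Mathlib
import Cfsg.Agent.Lib.Fi22I.Ev
import Cfsg.Agent.Lib.Fi22I.Gen

/-!
Type M(22) (helper96): transitivity on commuting pairs and triples, hexads, the standard base `BL`,
the stabiliser chain along `43, 47, 172, 424, 1062, 75`, automorphisms preserving `D`.
-/

set_option autoImplicit false
set_option maxRecDepth 100000

namespace H96.F22

open Cfsg H54 H94 H96.Lab

noncomputable def bnot (a : Bool) : Bool := Bool.rec true false a
@[simp] theorem bnot_eq_true (a : Bool) : bnot a = true ↔ ¬ a = true := by cases a <;> simp [bnot]

noncomputable def memL (i : ℕ) (l : List ℕ) : Bool := anyL (Nat.beq i) l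
theorem memL_iff (i : ℕ) (l : List ℕ) : memL i l = true ↔ i ∈ l := by
  simp [memL, anyL_iff]

noncomputable def nodupB (l : List ℕ) : Bool :=
  List.rec (motive := fun _ => Bool) true (fun a t ih => band (bnot (memL a t)) ih) l
theorem nodupB_iff (l : List ℕ) : nodupB l = true ↔ l.Nodup := by
  induction l with
  | nil => simp [nodupB]
  | cons a t ih =>
    have : nodupB (a :: t) = band (bnot (memL a t)) (nodupB t) := rfl
    rw [this, band_eq_true, bnot_eq_true, memL_iff, ih, List.nodup_cons]

noncomputable def cmL (l : List ℕ) (i : ℕ) : Bool := allL (fun j => cm j i) l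
/-- commutes with the members of `l` and is not in `l'` -/
noncomputable def nbr (l l' : List ℕ) (i : ℕ) : Bool := band (cmL l i) (bnot (memL i l'))
/-- a list of distinct pairwise commuting transpositions -/
noncomputable def okP (l : List ℕ) : Bool := band (vG l) (band (nodupB l) (allL (cmL l) l))
noncomputable def fixW (W l : List ℕ) : Bool :=
  allL (fun i => band (Nat.blt i 3510) (Nat.beq (evw W i) i)) l

noncomputable def nthW (L : List (List ℕ)) (k : ℕ) : List ℕ :=
  List.rec (motive := fun _ => ℕ → List ℕ) (fun _ => [])
    (fun a _ ih j => Nat.rec (motive := fun _ => List ℕ) a (fun k _ => ih k) j) L k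

theorem nthW_mem (L : List (List ℕ)) : ∀ k, nthW L k = [] ∨ nthW L k ∈ L := by
  induction L with
  | nil => intro k; left; rfl
  | cons a L ih =>
    intro k
    cases k with
    | zero => right; exact List.mem_cons_self
    | succ k => exact (ih k).imp_right (List.mem_cons_of_mem _)

/-- orbit walk: each 16-bit entry of `X` is a point already seen and the number of a generator -/
noncomputable def walk (gs : List (List ℕ)) (N : ℕ) : ℕ → ℕ → ℕ :=
  Nat.rec (motive := fun _ => ℕ → ℕ → ℕ) (fun _ s => s)
    (fun _ ih X s => force (Nat.land X 4095) fun p => force (Nat.land (Nat.shiftRight X 12) 15) fun k =>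
      force (Nat.shiftRight X 16) fun X' =>
        sel (tb s p) (force (Nat.lor s (Nat.shiftLeft 1 (evw (nthW gs k) p))) (ih X')) (ih X' s)) N

noncomputable def cover (gs : List (List ℕ)) (N X b : ℕ) (P : ℕ → Bool) : Bool :=
  force (walk gs N X (Nat.shiftLeft 1 b)) fun s => allLt (fun i => bimp (P i) (tb s i)) 3510

section walk
variable {Γ Ω : Type*} [Group Γ] [MulAction Γ Ω] {pt : ℕ → Ω} {H : Subgroup Γ} {gs : List (List ℕ)}

theorem walk_spec (hg : ∀ W ∈ gs, ∃ h ∈ H, RepF cfg22 pt h (evw W)) (x : Ω) : ∀ N X s,
    (∀ y, tb s y = true → y < 3510 ∧ ∃ h ∈ H, h • x = pt y) →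
    ∀ y, tb (walk gs N X s) y = true → y < 3510 ∧ ∃ h ∈ H, h • x = pt y
  | 0, _, _, h => h
  | N + 1, X, s, h => by
    have e : walk gs (N + 1) X s = sel (tb s (Nat.land X 4095))
        (walk gs N (Nat.shiftRight X 16) (Nat.lor s (Nat.shiftLeft 1
          (evw (nthW gs (Nat.land (Nat.shiftRight X 12) 15)) (Nat.land X 4095)))))
        (walk gs N (Nat.shiftRight X 16) s) := rfl
    rw [e]
    cases hb : tb s (Nat.land X 4095)
    · exact walk_spec hg x N _ s h
    · refine walk_spec hg x N _ _ fun y hy => ?_
      rw [tb_lor_shift, Bool.or_eq_true, decide_eq_true_eq] at hy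
      rcases hy with hy | rfl
      · exact h y hy
      · obtain ⟨h1, u, hu, e1⟩ := h _ hb
        rcases nthW_mem gs (Nat.land (Nat.shiftRight X 12) 15) with e2 | e2
        · rw [e2]; exact ⟨h1, u, hu, e1⟩
        · obtain ⟨v, hv, r⟩ := hg _ e2
          exact ⟨(r _ h1).1, v * u, H.mul_mem hv hu, by rw [mul_smul, e1, (r _ h1).2]⟩

theorem reach (hg : ∀ W ∈ gs, ∃ h ∈ H, RepF cfg22 pt h (evw W)) {N X b : ℕ} {P : ℕ → Bool}
    (hb : b < 3510) (h : cover gs N X b P = true) :
    ∀ i, i < 3510 → P i = true → ∃ h ∈ H, h • pt b = pt i := by
  intro i hi hP
  simp only [cover, force_eq, allLt_iff, bimp_eq_true] at h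
  refine (walk_spec hg (pt b) N X _ (fun y hy => ?_) i (h i hi hP)).2
  have := tb_lor_shift 0 b y
  rw [show Nat.lor 0 (Nat.shiftLeft 1 b) = Nat.shiftLeft 1 b from Nat.zero_or _, hy] at this
  have h2 : b = y := by simpa [tb_eq] using this
  subst h2
  exact ⟨hb, 1, H.one_mem, one_smul _ _⟩

end walk

/-- a commuting pair -/
structure Pr {G : Type*} [Group G] (D : Set G) (a b : G) : Prop where
  m1 : a ∈ D
  m2 : b ∈ D
  ne : a ≠ b
  cm : Commute a b

/-- a commuting triple -/
structure Tri {G : Type*} [Group G] (D : Set G) (a b c : G) : Prop where
  p12 : Pr D a b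
  p13 : Pr D a c
  p23 : Pr D b c

def In3 {G : Type*} (y a b c : G) : Prop := y = a ∨ y = b ∨ y = c

/-- a product of `m` distinct pairwise commuting members of `D` -/
def IsProd {G : Type*} [Group G] (D : Set G) (m : ℕ) (t : G) : Prop :=
  ∃ l : List G, l.Nodup ∧ l.length = m ∧ (∀ a ∈ l, a ∈ D) ∧ (∀ a ∈ l, ∀ b ∈ l, Commute a b) ∧ l.prod = t

/-- the automorphisms preserving `D` -/
def AD {G : Type*} [Group G] (D : Set G) : Subgroup (MulAut G) where
  carrier := {φ | ∀ x, φ x ∈ D ↔ x ∈ D}
  one_mem' := fun _ => Iff.rfl
  mul_mem' := fun {a b} ha hb x => (ha _).trans (hb x)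
  inv_mem' := fun {a} ha x => by rw [← ha]; simp

/-- number of fixed members of `D` -/
noncomputable def nf {G : Type*} [Group G] (D : Set G) (φ : MulAut G) : ℕ := {d | d ∈ D ∧ φ d = d}.ncard

def hexL : List ℕ := [155, 59, 424, 172, 47, 43]
def BL : List ℕ := [43, 47, 172, 424, 59, 155, 1062, 0, 6, 40, 154, 427, 434, 472, 637, 1710, 1734, 1779, 2609, 2692, 3399, 3400]
noncomputable def outP (i : ℕ) : Bool := allL (fun j => bnot (cm j i)) BL
noncomputable def blN : ℕ := 0xd48d47a84a316f36c66ae27d1d81b21ab09a02800600042609b03b1a80ac02f02b000
noncomputable def bwN : ℕ := 0x150900160a000000000000000000160a08000000000000000000000000000000000000000000000000000000000000000000000000000000150908000000000000001402000000000000001403000000000000000000000000000000000000160e0c000000001205000000000000000000001106000000000000000702000000000000000000000000160b08000000130502150b08000000130602100603000000070604000000070504000000150a08140501160908120301000000000000000000000000140601100503110301160a0115090100001500001600130100000000000000000000000000000000000000000000000014040300000000160800150b0000000000000000000000000000000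00000100c01140803000000140e0200160b130b01140a02090702130e01000000000000140a0300150d140c0200160f140f030000000b07020e0703000000000000130605140301000000000000140b03001508140902000000130801140201140f02000000100d01140903000000000000130b040000000000000000001303021205010000000a0702140e03140d0200000000160c130f0100150e00160e1106010000000807020f070313080407020100000000150f00000012050400000010060411060400000010050400150a100e04151107001609100f041612070d0702161107000000130e08000000100d0a0000001003020704020705030000000014050000000000000012030000000000000000000000000706030c0702001406151207001103001601001501130901130a01000013000000000000000000000000000000140602000000130601120401000000000000140502110401000000130501000000000000160801150b01000000150e0c150d0c160d0c000000001004120402000000160f0c000000000000000000000000110402001304160a04160b01000000160b0413120700100c160401100502120a0316060500130b120e03121007160f0800130e070601000000120e02000000150d09120403150d01130603160f04160f01110201110902150302130d03110c03140e01000000160d040000000012060000000f0704150904150801000000110f02000000000000150401150605110f031006020013080f0e011311071109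0312110900100d1104030000000b0605160302110d030705010000000f0e09150804000000000000111007120201120a02130503150e04080605160c0a160c01150e0b00130f150e01160e01130c03120d03140f01000000150c04001105120c03140401000000000000150f010000000e07040000000c0701140d04000000160901130f020c0907100c020d0701150a01130e020d0a07000000120903000000000000110a03000000000000120803000000000000000000000000000000000000000000130403140c04140605140e0b000000000000000000000000000000000000000000000000000000000000000000000000000000100d02140f08110b0300000000000000000000000000000000000000070300130900130a0605010000000906050a0605000000100e030c0a07000000001306110503001204000000100f030d09071206030011040704010000000013051003010000000000000000001006050000000000000000001103021203020000000807030000001105040b0703120604000f0e100401000000130f0a100a01000000100901140402161402000000151402001211000000100c08130904130a04130401100801000000100b010000000016040000000000000000000000000c0703160602000000130c01130c0a000000130b0a16130a0d060300160d150503150602000000100c04000706161301000000000000000000100e01160503130c08000000100e0b000000000000000000001102000000100b0a001606150f021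5090300140e150b03000000000000000000000000120601000000150c03000000000000000000001504000000000000000000000000000000130d011309080c05030d0703130d09151309150502000000000000100f01100f0a0006051009080e0503100d0400070515130100000000000000000000000000150c160603001202000000100f08000000150603000000160502000000000000000000000000000000001505160e02160a0300140f0000000000000000001105010f0603160803001404000000001407000000000000000000160d03000000000000001605000c07000000150e02000000000000120c01150d03000000150b02110804001506000d07110d01160c03000000160b02000000000000000000000000000000000000000000000000000000000000000000000000000000150802120c08000000000000160f02160802110d08000000000000000000000000001302000000000000000000000000000000000000000000120b04000000000000000000000000000000000000000000000000000000070301120f07110e07000000000d0c000000120904000000000000000000000000150a02120c0a000000000000110a04000000160902110d090000000007040000000000000000000010030000000000000000000000000000001304020000000000000000000000001206020c0b071105020d0807100201000000000000130201000000000000120d020000000000000f0c04110c020e0d041211010000000000000000000010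0100100a0d0c08001009130702121108000000000000000000000000150f0c110e02120f0214070100100800000000100b000000000000000000000000000000000000000000000000000000000000140504110b0200000000130c000000001613160d0100000000000000000011080200000000000000000000000000000000000000000000100e000000000000001006000000000000000000000000000000001510000000160601000000000000001503140b04000000100a02000000140b0700120a1409070000000f0c0100000000000000000000000000000000000000000000000000000000000000000000000000000000000000000000000014060400130d00151312080200000000000000100f000000000000001610120b02000000000000000000000000000000000000150c010000000000000010050000000000000000000000000000000000000000000000000000001505010000000016031408040000000000001408070000000e0d01000000100902000000001109140a0700000000000000000000000000000000000000000000000000000016050100000000000000000000000000000000000000150200120c000000100a0300000000000000000015060100000000160200110d000000090704000000000000000000140b010000000000000000000000000000000a0704000000130902000000000000000000000000100903000000130a021408010000000000000000000000000000000000000000000000000000000000000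000000000000000000000000000000000000000000000000000140d0c01000000000000000000000000000000000000100b03000000000000000000000000100803000000000000000000000000000000000000000000000000000000000000000000000000000000110e01000000120f01110e09000000000000000000160903161307000000000000150a03151307000000001002000000000000000000000000110e0400140b120f040014081007011006010000000000000000000e06020000001511050f050200000015100100001015100b1610081005010000000000001610010000000000000000000704030d05020c0602120c04120d07001303161105110d04110c07000000000000000000000000000000000000000000000000000000000000000000000000000000000000000000100e08000000000000120a01000000000000000000000000000000000000150f03000000000000000000000000120801160c02000000000000000000000000000000000000000000000000000000000000150301000000120a09000000000012070502000f0c100d07000000000000000000000000000000000000000000000000000000000000000000000000000000000000000000000000000000000000000000000000000000000000000000130d0a000000000000150d02000000000000000000000000000000000000110b01000000000000000000160e030000001109010000000000000000000000000000000000000000000000000000000000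00000000160301000000070602000e0d000000000011000000110a09000000100c07000000000000000000000000000000000000000000000000000000000000000000000000000000000000000000150201000000150403000000000000000000000000000000160201000000161007000000001401000000000000000000000000000000120d0815100700000000000000000000000000000016040300000000000000000000000000000000000000000000000000000000000000000000140900000000000000140a000000040301000000000000000000000000000000000000000000000000000000000000000000000000000000000000000000000000000000000000000000000000000000000000000000000000000000000000110603070302120503130d0200000007060500110e00000000120f000000000000100802000000130c02000000100b020000000000000000000010070000000000000000000000000f0c070c0604130f031514090e0d070d0504130e0316140a0012081311010000000a03020903021308030b030213030103020100110b1312010a0701090701130b030803020000000000000a08070000000000001106020000001403021413030e05040000001205020b09070f0604000000000000000000000000000000000000000000160504000000000000000000000000000000000000001201000000140d090000000000000000000000000000000e0b070e0a070000000000000000000000001505040000000000000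00000000000000000000000000000000000000000000000000000000000001209140d0100000000161200120b0504011411020a05040000000000000000000000000000000000000000000000000000000000000000000000000000000000000000000000000000001606040000000000000000000000000000000000000000000f0907000000140c0a0000000000000000000000000000000f0807001101000000000000000000150604000000000000000000000000000000000000000000000000000000001108000000000000140c0100000014120200000000110a06040100000000000000151109060400000000000000000000000000000000000000000000000000000000000000000000000000120d140901000000000000000000000000000000140a0100000000000000000000000000000000110c00000000000000000000000000000000000000000000000000000000000000000000000010040215140b000000000000161408000403000000000000000000000000000000000000000000000000000000000000000000000000000000000000000000000000000000000000080403001311000000000907000000000000000000000000000000100a07000000120d011206050e0c03110c011211021106050f0d031405030e0402120f090000000000000000000000001406030f04020000000000000000000000000013101009070b0403000000000a07000000001312000000001514110b080c0403150402000000001614120b080d04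03120e0b15120b110f09000302000000000000141001000701110f08161108000000160402000000000000000000000000000000000000000807110f01000000001507000000120e010000000f0d02131002141008000000000b070e0c0200000000160714100b00000000000000000000000000000000000012090100140d000000000000000000000000000000120b01000000000000000000000000000000000e0700000000000000000000000000000000000000000000000000000000000000000000000000000000000013060416120a0f0301161201000000130f070005040f0903000000000000000000000000000000000000000000000000000000000000000000000000000000000000000000000000000f0711080100000000000000000000000000000000140c000000000000000000000000000000110a01000000000000000000000000000000000000000000000000000000000000000000130504130e070000000000000e03010e0a03000000151109000604000000151101000000000000000000000000000000000000000000000000000000000000110c080000000000000000000000000000000000000000000000000000000000000000000000000000000000000000000000000000000000000d0c020904030000000a0403000000000000000000000000000000000000000000000000000000000000000000000000000000000000151302131109000007161401160e07080504000000160b070000000000000000000000000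000000000000014121511020f0a040f080516130213120a0000000f05010f07011407050000000000000e06010e07011310050000001107030000000000001310080000000000001207030e0c0800000013100a0f0d0a131001151401150f070000001508070b060400000000000000000008070100110f00161100000000000000000000000000120e0015120000000000000000000014100b0701000000000000000000000000000000000000000000000000000000000000000000000000100403150a070d06011507010000000000000c05011513030c0a050000001609071613030000001607010000000000000000000000000000000000000e0807000000000000000000000000000000000000000000000000000000000000000000000000000000000000000000000000000000000000000000000000111004090504000f030000000b05040000000000000000000000000000000000000000000014110000000000000000000000000e09041612020000000000000000000000000000000f0b07000000000000000000000000000000000000000000000000000000000000000000000000000000000000000000000000000000000000121004080604000000000e030000000a06040000000000000000000000000000000000000000000000000000000000000000000000000000000000000000000000000000000000000000000000000000000000000000000f0b050000000000000000000000000000000000000000000000000000000000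00000000000e060c0a020c0b0204020100000015120114120a14120b0904020905031312021307051412010805030000000000000000000000000000000000000000000000000000000000000a05030b0503000f04000000000f050d09020d08020000000000000000000000000000000d0201000e0c0000000000000000000c02011607021612050f05030000001512051507020d0602000000000f0d0c05020e06030000001611011411080a04021411090a0603141101141005131102000000000000000000000000000000120e090000000000000000000000000000000000000000000000000000000000000000000000000000000000000000000000000000000000000000000000000f0e03080402000d06000000000c050000000b04020000000000000000000000000000000000000000000000000000000000000000000000000000000000000000000000000000000000000000000000000000000c08020000000000000000000000000000000000000000000b0603000000000000000000000000000000000000000000000e040806030906030000000000000000000000000000000000000000000000000000000000000000000000000000000000000000000000000000000000000d0b02000000000000000000000000000000000000000000000000000000000000000000000000000000000000000000000000000000000000000000000000000000000000000000000000000000000000000f01000f0b000f0a000f090000000000000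00000000000000c020000000000000004020d0b010d0a010000000d09010e03020c06050f0401000503140e070d0b080000000f0e0c0d0b0a0000000d04010c03020e06050f08010000000000000000000000000000000000000000000000000000000000000000000000000000000d0801000000000000000000000d020000000000000000000000000000000000000000000b04010a04010e0c010000000000000904010b09041410020000000804011007030a08040000000f0d010000000c0a010e04010c09010d06050c08010f03020000000000000006030c090816150c0c0b08140f070000000000000000000000000000000000000000000000000000000000000d09050000000000000000000000000000000000000000000000000000000c09050000000000000000000000000000000000000000000000000000000000000000000000000000000000000000000000000000000000000000000000000000000000000000000000000000000c04010000000000000000000f06050000000000000d03020000000e0b010000000c0b010000000000000000000000000000000000000000000000000000000000000000000000000000000000000000000000000000000000000000000000000000000000000000000000000000000000000000000000000000000000000000000000000000000000000000000000000f0a09140c070000000000000000000000000f09010000000f0b0a0f0a010f0b0100000000000000000f0000000000000000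00000000000e0a000e09000e08000e01000000000000000000000000000000000000000000000000000000000000000000000f08100705121002000d04000d01000d0b000d0a000000000d09000d05000d08000000000000000000000000000000000000000000050301000000000000000000000000110701110b07110a07000000000000000000000000000000000000000000000000000000000000000000000000000000000000000000000000000000000000000000000000000000000000000000000000000401000b04000a04000000000904140702000000000804000000000000000000000e0b000c01000c0b000c0a111002000c09000c06141305000c08000c04000000000000000000000000000000000000060301000000000000000000000000000000000000000000130b070000000000000000001308070000000000000000000000000000000000000000000000000000000000000000000000000000000000000000000000000000000000000000000000000000000000000000000000001207010000001209070000001208070000000000000000000000000000000000000000000000000000000000000000000000000000000000000000000000000000000000000000000000000000000000000000000000000000000000000000000000000000000000000000000000000602010b06020a06020000000000000000000000000000000000000000000000000000000000000000000000000906020000000000000000000000000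00000000000000000000000140d070e0a090000000000000e0a010000000000000000000000000e090800000e0e08010000000e09010000000000000000000000000000000000000000000000000000000000000d05010000000000000000000000000000000000000000000000000d0a050000000000000000000e0d0c1512030d0b0415100200000000000d0000001614040000000000000000000000000000000000000000000000000000000011070000000000000000000000000000000000000000000000000000000000000000000000000000000000000000000c06010000000000000000000000000000000000000f05040000000000040000000e06040000000000000000000000000000001514040f0d0c00000c0c0804161002161103000000000000000000000000000000000000000000000000000000001307000000000000000000000000000000000000000000000000000000000000000000000000000000000000000000000000000000000000000000000000000000001207000000000000000000000000000000000000000000000000000000000000000000000000000000000000000000000000000000000000000000000000000000000000000000000000000000000000000000000000000000000000000000000000000000000000000000000f020000000006020000000000000000000000000000000000000000000000000000000000000000000000000000000000000000000000000000000000000000000000000000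000502010000000905020000000805020000000000000000000000000000000000000000000000000000000a05020000000000000000000000000000000000000000000b08030000000000000000000b0a030000000000000000000f0c020000000000000000000b03010000000000000803010000000000000000000000000000000000000f08020000000806020a03010000000000000000000000000000000000000000000000000000000000000000000000000000000000000000000000000000000000000000000000000000000000000e0d020000000000000908030000000000000000000000001307010000000000000000000000000000000903010b05020e0b020000000000000000000000000000000000000000000000000000000000000000000000000000000000000000000000000000000000000000000000000000000000000000000000000000000000000000000000000000000000000000000000000000000000000000000000000000000000000000000000000000000000000f02010000000000000000000000000000000f0a020000000000000000000000000000000000000000000000000000000f09020f0b02000000000000000000000000000000000000000000000000000000000000000000000000000000000000000000000000000000000000000000000000000000000000000000000000000000000000000000000000000000000000000000000000000000000502000e020000000000000000000000000000000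00000000000000000000000000000000000000000000000000000000000000000000b03000803121105000000000000000a03000000000000000c03000000000301000000000d0300000000000000000000000000000012100b160d07000000000000000000000000000000000000000000000000000000000000000000000000000000000000000000000000000000000000000000000000000903000000161505000000000000000000000000000000000000000000000000150c071110080000000000000000000000000000000000000000000000000000000000000000000000000000000000000000000000000000000000000000000000000000000000000000000000000000000000000000000000000000000000000000000000000000000000000000000000000000001312040000000000001411030d0c050000000000000000000b06010906010000000000000000000000000000000000000a06010000000000000000000000000000000000000000000000000000000000000000000000000000000000000000000000000000000000000000000e09020000000000000000000000000000000000000000000000000000000000000000000e02010000000000000000000e08020e0a020000000000000000000000000000000000000000000000000000000000000000000000000c03010000030d03010d04020e04030000000000000000000c09030c0b030000000d08030d0a030000000000000000000012100000000000000000000000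000000000000000000000000000000000000000000000000000000000000000000000f04030c0402000000000000000000000000000000001110000000000000000000000000000000000000000000000000000000000000000000000000000000000000000000000000000000000000000000000000000000000000000000000000000000000000000000000000000000000000000000000000000000000b06000906000000000000000a06000000000000000601000f060000000000000000000000000000000000000000000000000000000000000000000000000000000000000000000000001311040000000000000000000a05010805010000000000000000000000000000000000000000000000000000000a09051412030000000000000905010000000000000000000000000000000000000000000000000000000000000000000f0e051107021207020b08051210010000000000000806010e0b050b05010000000000000000000000000000000000000000000000000000000000000000000000000000000000001110010000000000000000000000000000000000000000000000000000000000000000000000000000000000000000000000000000000000000000000000000000000000000000000000000000000e08050000000000000000000000000000000000000000000000060f06010000000000000000001510031607040000000000000000000000000000000000000000000000000000000000000000000000000000000000000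00000000a05000805000000000e05000501000000000000000000000000000000000000000000000905000000000000000000000000000000000000000000000000000000000000000000000806161502000b0500000000000014130a1413090000000000000000000000000000000000000000000000000000000000000000000000000000000000000000000000000000000000000000000000000000000000000000000000000000000000000a09020000000a02010902010000000000000000000000000000000b0a020b09020000000b02010000000000000000000000000000000000000000000000000000000000000000000000000000000000000e05010000051507041610030000000000000000000000000000000000000000000000000000000000000000000000000000000000000d06040c0504000000001413000000000000000000000000000000000000000000000000000000000000000000000000000000000000000000000000000000000000000000000000000a02000902000201000000000000000000000000000b020000000000000000000000000000000000000000000000000000000000000000000000000000000000000a08020908020802010000000000000000000000000000000000000000000000000000000000000000001413010000000000000000000000000000000000000000000000000000000000000000000000000000000000000000000000000000020000000000000000000000000000000f06020000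000000000000000000000000000000000000000000000000000000000000000000000008020000000000000000000000000000000000000000000000000000000000001615010000000000000000000000000000000000000000000000000000000000000000000a09010000000000000b0a010000000b09011615080000000000000000000000000000000000000000000000000000000000000000000e05020000000000000000000000000000000d05030000000c0603001615000000000000000000000000000000000a01000901000a09000000000b01000b0a000000000b090000000000000000000000000000000000000000000000000000000a08010908010a09080000000000000000000b08010b0a080000000b090800000000000000000000000100000a00000900000000000b000000000000000000000000000000000000000000000000000000000000000000000000000000000000000801000a08000908000000000000000b08000000000000000000000000000000000000000000000000000000000000000000000000000000000000000000000000000000000000000000000000000000000008000000000000000000000000000000000000000000000000000000000000000000000000000000000000000000000000000000000000000000000000000000000000000000000000000000000000000000000000000000000000000000000000000000000000000000000000000000000000000000000000000000000000000000000000000000000000000000000000000000000000000000000000000000000000000000000000000000000000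
noncomputable def dec3 (e : ℕ) : List ℕ :=
  force (Nat.land e 255) fun a => force (Nat.land (Nat.shiftRight e 8) 255) fun b =>
    force (Nat.shiftRight e 16) fun c => sel (Nat.beq a 0) [] (gt blN a :: sel (Nat.beq b 0) []
      (gt blN b :: sel (Nat.beq c 0) [] [gt blN c]))
/-- the element of the base group moving `75` to `i` -/
noncomputable def bw (i : ℕ) : List ℕ := force (g24 bwN i) dec3

noncomputable def gensG (l : List ℕ) (gs : List (List ℕ)) : Bool := allL (fun W => band (vG W) (fixW W l)) gs

theorem cov1 : cover [[916], [50], [88], [472], [154], [155]] 692 0x10523047105841ae500340511298078d592209cf20e500e5003723f200f453d0540f040f031e407830782078238c0a780360203b59f12242124224f504f553fe0a314a752451518a596520ce543b4025002533a823a859b40887094b52b011140114235d39f5405b392d092d030e5a8020e35b28563a163a063a3a7b0a8d043e5a4b4a4b29440390085b55c335c315c3519c019c0d9c1daa297619765a39213858df28df13820382537f437f01dc5681122440f74211201953c1504110415dae0dae5a26429c129c21df4d613d6119df277b01600a7d29c24682092b12e3014d02120b585da30c1857ba37ba57d037d0558725870d4158530853283458c538c54dab424850a00a7243d25677222550eb40e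b52fe42fe1a3e0a3e425e325e28365a234a2308ae598350bf40bf10bf5d743d741d740d742d4718640864499f099f1284557d457d157d49cc39cc29cc18cf02a9012a5d8f5d832d831d8309c12311031152600260596139614d633d63131c031c43275a402b2f4321132159dd49dd09dd32d622d65cc930ec0ae1311515482d4b03ec512b150a140320d210d2319e1a6f42fd12fd449f43b233b25320014e50301030003010aa00aa547b2daf0942340529ef05041c91567c467c367c2d8c2d905d7c4d7c3d7c501555b62b2023df03df143841333133113302d92a630a635a36112110d300d35018497e197e119d0380034349914d492247018d242d31f741ed01ed3ccc048f02af319b219b119b23f7502c429f5a5c2a5c1a5c5d8e3d8e1d8e0d8e26f306f32d915d814d811d8126c606c65d772d771d770d775d844d842d841d840d84423b323b123b48cc207e107e4972397244a2516509b1447d047d035251dd41dd31dd11dd120e595f495f195f095f49283928292849af09af506d434913490349404510450a3b2d951d9547f817f834b824b814b8297c522910220022317401745da14da13da11da148c318c352bb42bb12bb02bb33c523c5328a228a03aa4ad23ad22ad21ad2234a034a503443c803c8126e026e45003500215f44f914f904f9517d417d545344530b3523c313c34100499329931993002622d702d72b3823e903e9404e004e54363436225d125d50983098300f440004005d4a3d4a2a861a8648f138f15cd34cd33cd31cd34d94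3d942d9452b32a5150993099097a4b9f3b9f2b9f1b9f22205228237d037d5316594349430310410202b640243024202442e112e102e128f508f550b64af61af62a940a94531225270527512c47b841f9404830481048217f017f517e56db234c034c518950f330f313c638d1597849782da01da04da22da21da25d164d163d1641ea21ea11ea07952877087751c621c64aba3aba1aba0aba386b286b186b2ab7304f204f104f23e803e8294509452881088151b721b701b7307710770077435f335f235f135f00b422fa02fa592a092a128142e012e041c131c121c1002852ba447a147a012351c2509751eb525640633063006340bb30bb20bb10bb114447f637f607f64b3b1b3b2d481d480314525f125f287f087f52b532b502b55855385528554391339113911000238e5393339310062b7553ad23ad58600860123f227a027a51c941c901c951354135213533a013a003a04d7a3d7a2d7a052651de535133512bb40bb450f200f2516e52d55175417520960096539759504950338123811381203e335423541354215201525088208810880088524642462246124620800080388c188c088c0924388618860886522c222c022c244f044f545224520452540d440d140d040d524122410241245d045d51f021f011f001f05122412221221122012252e842e832e80059505d005d5070407000705002298a58332833183354cf44cf24cf14cf524b424b324b224b5044404430441044574d474d374d174d202f002f 47 (nbr [43] [43]) = true :=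 by decide +kernel
theorem cov2 : cover [[227], [434], [50], [427], [56], [1779]] 179 0x204f02e85d8c5d9c5d7a02fa212c5a63404e304e204e19b1235200a8002846c61d6350b6003041375098402410245daa1daa43805db04db01db001002a3951f831f818b008b026ae21d8319f019f4274027453c4531e431e031e0a831396517f217f520132012201316501654a303a3013f203f20343097842b43947094720412b27201e2a3e204a5da24da22da25d953d952d95122802284454045440c020c0510253de33de23de343b043b2a3153120312247a3147537f437f237f03d0218a12ae02ae40c220c253933393518b418b218b492d292d5a323a321a3228f53875187508754af62af651a011a001a022aa52b322b352a932a902a95d613d611d61495f295f59f139f109f12965192a092a517e217e5310431033104229533c433c53554355335550ce40ce30ce20e550d320d341ec5b283b281b280b285a364a365a5c4a5c3a5c0a5c50c130c110c100c15a4b3a4b5202420232021202225c43d423d413d400ac 172 (nbr [47, 43] [47, 43]) = true := by decide +kernel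
theorem cov3 : cover [[1083, 976, 583]] 2 0x9b01a8 424 (fun i => memL i [424, 59, 155]) = true := by decide +kernel
theorem cov4 : cover [[56], [1779], [434], [472], [637], [154]] 47 0xdb0007e004a004f504e004e5db250655063503940390d950da05d940d940daa5d9d0d9d5d9c4d9c0d9c00525024002450474047004750494049304900495d905d7a4d7a5db14db13db1506b406b306b206b5da24da23da22da21da20426 1062 (nbr [172, 47, 43] hexL) = true := by decide +kernel
theorem cnt1 : cntLt (nbr [43] [43]) 3510 = 693 := by decide +kernel
theorem cnt2 : cntLt (nbr [47, 43] [47, 43]) 3510 = 180 := by decide +kernel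
theorem cnt3 : cntLt (fun i => memL i [424, 59, 155]) 3510 = 3 := by decide +kernel
theorem cnt4 : cntLt (nbr [172, 47, 43] hexL) 3510 = 48 := by decide +kernel
theorem cnt5 : cntLt outP 3510 = 1024 := by decide +kernel
theorem bw_chk : allLt (fun i => bimp (outP i) (band (allL (fun j => memL j BL) (bw i))
    (band (nodupB (bw i)) (band (Nat.ble (len (bw i)) 3) (Nat.beq (evw (bw i) 75) i))))) 3510 = true := by
  decide +kernel
theorem BL_ok : okP BL = true := by decide +kernel
theorem BL_max : allLt (fun i => bimp (cmL [1062, 172, 47, 43] i) (memL i BL)) 3510 = true := by decide +kernel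
theorem fix3_chk : allLt (fun i => bimp (Nat.beq (evw [43, 47, 172] i) i)
    (bor (memL i hexL) (nbr [172, 47, 43] hexL i))) 3510 = true := by decide +kernel
noncomputable def fixCnt (W : List ℕ) : ℕ := cntLt (fun i => Nat.beq (evw W i) i) 3510
theorem fc1 : fixCnt [43] = 694 := by decide +kernel
theorem fc2 : fixCnt [43, 47] = 182 := by decide +kernel
theorem fc3 : fixCnt [43, 47, 172] = 54 := by decide +kernel
theorem fc4 : fixCnt [1062, 43, 47, 172] = 54 := by decide +kernel
/-- `p q r = u v w` for commuting triples, `u` not in the first -/
noncomputable def hexOk (p q r u v w : ℕ) : Bool :=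
  band (okP [p, q, r]) (band (okP [u, v, w]) (band (eqW [p, q, r] [u, v, w]) (bnot (memL u [p, q, r]))))
noncomputable def stOk (e : List ℕ) : Bool :=
  band (memL (nth e 1) hexL) (band (memL (nth e 2) hexL) (band (memL (nth e 5) hexL) (band (memL (nth e 6) hexL)
    (band (hexOk (nth e 1) (nth e 2) 1062 (nth e 0) (nth e 3) (nth e 4))
      (band (hexOk (nth e 5) (nth e 6) 1062 (nth e 0) (nth e 7) (nth e 8))
        (nodupB [nth e 0, nth e 3, nth e 4, nth e 7, nth e 8]))))))
def stL : List (List ℕ) := [[0, 43, 59, 427, 3400, 47, 155, 6, 1734], [6, 43, 172, 40, 2609, 47, 155, 0, 1734], [40, 43, 172, 6, 2609, 47, 59, 154, 1779], [154, 43, 155, 434, 3399, 47, 59, 40, 1779], [427, 43, 59, 0, 3400, 47, 424, 434, 2609], [434, 43, 155, 154, 3399, 47, 424, 427, 2609], [472, 43, 47, 637, 1710, 172, 155, 427, 1779], [637, 43, 47, 472, 1710, 172, 59, 434, 1734], [1710, 43, 47, 472, 637, 172, 424, 0, 154], [1734, 43, 424, 1779, 2692, 47, 155, 0, 6], [1779, 43, 424, 1734, 2692, 47, 59, 40, 154], [2609, 43, 172, 6, 40, 47, 424, 427, 434], [2692, 43, 424, 1734, 1779, 47, 172, 3399, 3400], [3399, 43, 155, 154, 434, 47, 172,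 2692, 3400], [3400, 43, 59, 0, 427, 47, 172, 2692, 3399]]
theorem st_chk : allL (fun i => bor (memL i (1062 :: hexL)) (anyL (fun e => band (Nat.beq (nth e 0) i) (stOk e)) stL))
    BL = true := by decide +kernel
def clL : List (List ℕ) := [[0], [75, 3399, 75, 40, 424, 43], [6], [75, 3399, 75, 0, 155, 59], [40], [75, 3399, 75, 0, 424, 43], [154], [43], [75, 472, 75, 40, 6, 0]]
theorem cl_chk : allL (fun i => anyL (fun W => band (Nat.beq (evw W.tail (W.headD 0)) i)
    (band (memL (W.headD 0) (75 :: BL)) (allL (fun j => memL j (75 :: BL)) W.tail))) clL) gens9 = true := by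
  decide +kernel

variable {G : Type*} [Group G] {D : Set G} (M : Model22 G D)

theorem Pr.symm {a b : G} (h : Pr D a b) : Pr D b a := ⟨h.m2, h.m1, h.ne.symm, h.cm.symm⟩
theorem Tri.swap {a b c : G} (h : Tri D a b c) : Tri D b a c := ⟨h.p12.symm, h.p23, h.p13⟩
theorem Tri.rot {a b c : G} (h : Tri D a b c) : Tri D c a b := ⟨h.p13.symm, h.p23.symm, h.p12⟩
theorem Tri.swap_eq {a b c : G} (h : Tri D a b c) : b * a * c = a * b * c := by rw [h.p12.cm.eq]
theorem Tri.rot_eq {a b c : G} (h : Tri D a b c) : c * a * b = a * b * c := by
  rw [← h.p13.cm.eq, mul_assoc, ← h.p23.cm.eq, mul_assoc]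

theorem mem_AD {φ : MulAut G} : φ ∈ AD D ↔ ∀ x, φ x ∈ D ↔ x ∈ D := Iff.rfl
theorem Pr.map {a b : G} (h : Pr D a b) {φ : MulAut G} (hφ : φ ∈ AD D) : Pr D (φ a) (φ b) :=
  ⟨(hφ _).2 h.m1, (hφ _).2 h.m2, φ.injective.ne h.ne, h.cm.map φ⟩
theorem Tri.map {a b c : G} (h : Tri D a b c) {φ : MulAut G} (hφ : φ ∈ AD D) : Tri D (φ a) (φ b) (φ c) :=
  ⟨h.p12.map hφ, h.p13.map hφ, h.p23.map hφ⟩

include M in
theorem conj_mem_AD (g : G) : MulAut.conj g ∈ AD D := fun _ => M.tt.conj_mem_iff g

theorem mem_AD_of_rep {φ : MulAut G} {f : ℕ → ℕ} (r : RepF cfg22 M.x φ f) : φ ∈ AD D := by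
  intro y
  constructor
  · intro h
    obtain ⟨j, hj, e⟩ := M.exists_x h
    obtain ⟨i, hi, rfl⟩ := r.surj (ctxA M) j hj
    have : φ (M.x i) = φ y := (r i hi).2.trans e
    exact φ.injective this ▸ M.x_mem hi
  · intro h
    obtain ⟨j, hj, rfl⟩ := M.exists_x h
    exact (show φ (M.x j) = _ from (r j hj).2) ▸ M.x_mem (r j hj).1

theorem a_mem_AD {W : List ℕ} (h : vA W = true) : a M W ∈ AD D := mem_AD_of_rep M (rep_a M h)
theorem sig_mem_AD : sig M ∈ AD D := mem_AD_of_rep M (rep_sig M)

theorem AD_x {φ : MulAut G} (h : φ ∈ AD D) {i : ℕ} (hi : i < 3510) : ∃ j, j < 3510 ∧ φ (M.x i) = M.x j := by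
  obtain ⟨j, hj, e⟩ := M.exists_x ((h _).2 (M.x_mem hi))
  exact ⟨j, hj, e.symm⟩

theorem AD_rep {φ : MulAut G} (h : φ ∈ AD D) : ∃ f, RepF cfg22 M.x φ f := by
  classical
  choose! f hf using fun i (hi : i < 3510) => AD_x M h hi
  exact ⟨f, hf⟩

/-- the model transported by an automorphism preserving `D` -/
noncomputable def tr {φ : MulAut G} (h : φ ∈ AD D) : Model22 G D :=
  M.map φ (by
    ext y
    exact ⟨by rintro ⟨x, hx, rfl⟩; exact (h x).2 hx, fun hy => ⟨φ.symm y, (h _).1 (by simpa using hy), by simp⟩⟩) M.cls

theorem tr_x {φ : MulAut G} (h : φ ∈ AD D) (j : ℕ) : (tr M h).x j = φ (M.x j) := rfl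

theorem cmL_iff {l : List ℕ} (hl : vG l = true) {i : ℕ} (hi : i < 3510) :
    cmL l i = true ↔ ∀ j ∈ l, Commute (M.x j) (M.x i) := by
  rw [cmL, allL_iff]
  exact forall₂_congr fun j hj => cm_iff M ((vG_iff l).1 hl j hj) hi

theorem nbr_iff {l l' : List ℕ} (hl : vG l = true) {i : ℕ} (hi : i < 3510) :
    nbr l l' i = true ↔ (∀ j ∈ l, Commute (M.x j) (M.x i)) ∧ i ∉ l' := by
  rw [nbr, band_eq_true, bnot_eq_true, memL_iff, cmL_iff M hl hi]

theorem okP_spec {l : List ℕ} (h : okP l = true) : (∀ i ∈ l, i < 3510) ∧ l.Nodup ∧
    ∀ i ∈ l, ∀ j ∈ l, Commute (M.x i) (M.x j) := by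
  simp only [okP, band_eq_true, nodupB_iff, allL_iff] at h
  exact ⟨(vG_iff l).1 h.1, h.2.1, fun i hi j hj =>
    (cmL_iff M h.1 ((vG_iff l).1 h.1 j hj)).1 (h.2.2 j hj) i hi⟩

theorem isProd_of {l : List ℕ} (h1 : ∀ i ∈ l, i < 3510) (h2 : l.Nodup)
    (h3 : ∀ i ∈ l, ∀ j ∈ l, Commute (M.x i) (M.x j)) : IsProd D l.length (w M l) := by
  refine ⟨l.map M.x, h2.map_on fun i hi j hj e => M.x_inj (h1 i hi) (h1 j hj) e, by simp, ?_, ?_, rfl⟩
  · simp only [List.forall_mem_map]; exact fun i hi => M.x_mem (h1 i hi)
  · simp only [List.forall_mem_map]; exact h3

theorem pr_of_okP {i j : ℕ} (h : okP [i, j] = true) : Pr D (M.x i) (M.x j) := by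
  obtain ⟨h1, h2, h3⟩ := okP_spec M h
  have a1 := h1 i (by simp)
  have a2 := h1 j (by simp)
  exact ⟨M.x_mem a1, M.x_mem a2, fun e => by simp [M.x_inj a1 a2 e] at h2, h3 i (by simp) j (by simp)⟩

theorem tri_of_okP {i j k : ℕ} (h : okP [i, j, k] = true) : Tri D (M.x i) (M.x j) (M.x k) := by
  obtain ⟨h1, h2, h3⟩ := okP_spec M h
  have a1 := h1 i (by simp)
  have a2 := h1 j (by simp)
  have a3 := h1 k (by simp)
  simp only [List.nodup_cons, List.mem_cons, List.not_mem_nil, or_false, not_or] at h2
  exact ⟨⟨M.x_mem a1, M.x_mem a2, fun e => h2.1.1 (M.x_inj a1 a2 e), h3 i (by simp) j (by simp)⟩,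
    ⟨M.x_mem a1, M.x_mem a3, fun e => h2.1.2 (M.x_inj a1 a3 e), h3 i (by simp) k (by simp)⟩,
    ⟨M.x_mem a2, M.x_mem a3, fun e => h2.2.1 (M.x_inj a2 a3 e), h3 j (by simp) k (by simp)⟩⟩

theorem w_mem_Fx {W l : List ℕ} (h : vG W = true) (h' : fixW W l = true) : w M W ∈ Fx G M.pt l :=
  mem_Fx_of_rep (rep_w M h) h'

theorem a_mem_Fx {W l : List ℕ} (h : vA W = true) (h' : fixW W l = true) : a M W ∈ Fx (MulAut G) M.x l :=
  mem_Fx_of_rep (rep_a M h) h'

theorem gensG_spec {l : List ℕ} {gs : List (List ℕ)} (h : gensG l gs = true) :
    ∀ W ∈ gs, ∃ g ∈ Fx G M.pt l, RepF cfg22 M.pt g (evw W) := fun W hW => by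
  have := (allL_iff _ _).1 h W hW
  rw [band_eq_true] at this
  exact ⟨_, w_mem_Fx M this.1 this.2, rep_w M this.1⟩

theorem conj_mem_Fx {g : G} {l : List ℕ} : MulAut.conj g ∈ Fx (MulAut G) M.x l ↔ g ∈ Fx G M.pt l := Iff.rfl

theorem mem_Fx_iff {g : G} {l : List ℕ} : g ∈ Fx G M.pt l ↔ ∀ i ∈ l, Commute g (M.x i) :=
  forall₂_congr fun _ _ => CPt.smul_eq_self_iff

theorem mem_FxA {φ : MulAut G} {l : List ℕ} : φ ∈ Fx (MulAut G) M.x l ↔ ∀ i ∈ l, φ (M.x i) = M.x i := Iff.rfl

/-- candidate images -/
theorem cand {φ : MulAut G} (hφ : φ ∈ AD D) {l l' : List ℕ} (hl : vG l = true)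
    (h1 : φ ∈ Fx (MulAut G) M.x l) (h2 : φ ∈ Fx (MulAut G) M.x l') {i : ℕ} (hi : i < 3510)
    (h : nbr l l' i = true) : ∃ j, j < 3510 ∧ nbr l l' j = true ∧ φ (M.x i) = M.x j := by
  obtain ⟨j, hj, e⟩ := AD_x M hφ hi
  rw [nbr_iff M hl hi] at h
  refine ⟨j, hj, (nbr_iff M hl hj).2 ⟨fun k hk => ?_, fun hk => h.2 ?_⟩, e⟩
  · rw [← e, ← (mem_FxA M).1 h1 k hk]; exact (h.1 k hk).map φ
  · rw [← (mem_FxA M).1 h2 j hk] at e
    rwa [M.x_inj hi hj (φ.injective e)]

theorem reach1 : ∀ i, i < 3510 → nbr [43] [43] i = true → ∃ g ∈ Fx G M.pt [43], g • M.pt 47 = M.pt i :=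
  reach (gensG_spec M (by decide +kernel)) (by norm_num) cov1
theorem reach2 : ∀ i, i < 3510 → nbr [47, 43] [47, 43] i = true →
    ∃ g ∈ Fx G M.pt [47, 43], g • M.pt 172 = M.pt i :=
  reach (gensG_spec M (by decide +kernel)) (by norm_num) cov2
theorem reach3 : ∀ i, i < 3510 → memL i [424, 59, 155] = true →
    ∃ g ∈ Fx G M.pt [172, 47, 43], g • M.pt 424 = M.pt i :=
  reach (gensG_spec M (by decide +kernel)) (by norm_num) cov3
theorem reach4 : ∀ i, i < 3510 → nbr [172, 47, 43] hexL i = true →
    ∃ g ∈ Fx G M.pt hexL, g • M.pt 1062 = M.pt i :=
  reach (gensG_spec M (by decide +kernel)) (by norm_num) cov4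

theorem trans1 {a : G} (h : a ∈ D) : ∃ g : G, g * M.x 43 * g⁻¹ = a :=
  exists_conj_of_class M.cls (M.x_mem (by norm_num)) h

theorem trans2 {a b : G} (h : Pr D a b) : ∃ g : G, g * M.x 43 * g⁻¹ = a ∧ g * M.x 47 * g⁻¹ = b := by
  obtain ⟨g, rfl⟩ := trans1 M h.m1
  have h' := h.map (conj_mem_AD M g⁻¹)
  obtain ⟨i, hi, e⟩ := M.exists_x h'.m2
  have e1 : MulAut.conj g⁻¹ (g * M.x 43 * g⁻¹) = M.x 43 := by simp [mul_assoc]
  rw [e1, ← e] at h'
  obtain ⟨u, hu, e2⟩ := reach1 M i hi ((nbr_iff M (by decide +kernel) hi).2
    ⟨by simpa using h'.cm, by simpa using fun e => h'.ne (by rw [e])⟩)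
  have e3 : u * M.x 43 * u⁻¹ = M.x 43 := hu 43 (by simp)
  have e4 : u * M.x 47 * u⁻¹ = M.x i := e2
  refine ⟨g * u, ?_, ?_⟩
  · conv_rhs => rw [← e3]
    group
  · have : b = g * M.x i * g⁻¹ := by rw [e]; simp [mul_assoc]
    rw [this, ← e4]; group

theorem trans3 {a b c : G} (h : Tri D a b c) :
    ∃ g : G, g * M.x 43 * g⁻¹ = a ∧ g * M.x 47 * g⁻¹ = b ∧ g * M.x 172 * g⁻¹ = c := by
  obtain ⟨g, rfl, rfl⟩ := trans2 M h.p12
  have h' := h.map (conj_mem_AD M g⁻¹)
  obtain ⟨i, hi, e⟩ := M.exists_x h'.p13.m2
  have e1 : ∀ y, MulAut.conj g⁻¹ (g * y * g⁻¹) = y := by simp [mul_assoc]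
  rw [e1, e1, ← e] at h'
  obtain ⟨u, hu, e2⟩ := reach2 M i hi ((nbr_iff M (by decide +kernel) hi).2
    ⟨by simpa using ⟨h'.p23.cm, h'.p13.cm⟩,
      by simpa using ⟨fun e => h'.p23.ne (by rw [e]), fun e => h'.p13.ne (by rw [e])⟩⟩)
  have e3 : u * M.x 43 * u⁻¹ = M.x 43 := hu 43 (by simp)
  have e3' : u * M.x 47 * u⁻¹ = M.x 47 := hu 47 (by simp)
  have e4 : u * M.x 172 * u⁻¹ = M.x i := e2
  refine ⟨g * u, ?_, ?_, ?_⟩
  · conv_rhs => rw [← e3]
    group
  · conv_rhs => rw [← e3']
    group
  · have : c = g * M.x i * g⁻¹ := by rw [e]; simp [mul_assoc]
    rw [this, ← e4]; group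

include M in
theorem model1 {a : G} (h : a ∈ D) : ∃ M' : Model22 G D, M'.x 43 = a := by
  obtain ⟨g, e⟩ := trans1 M h
  exact ⟨tr M (conj_mem_AD M g), e⟩

include M in
theorem model2 {a b : G} (h : Pr D a b) : ∃ M' : Model22 G D, M'.x 43 = a ∧ M'.x 47 = b := by
  obtain ⟨g, e⟩ := trans2 M h
  exact ⟨tr M (conj_mem_AD M g), e⟩

include M in
theorem model3 {a b c : G} (h : Tri D a b c) :
    ∃ M' : Model22 G D, M'.x 43 = a ∧ M'.x 47 = b ∧ M'.x 172 = c := by
  obtain ⟨g, e⟩ := trans3 M h
  exact ⟨tr M (conj_mem_AD M g), e⟩

/-! ### numbers of fixed points -/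

theorem nf_rep {φ : MulAut G} {f : ℕ → ℕ} (r : RepF cfg22 M.x φ f) :
    nf D φ = cntLt (fun i => Nat.beq (f i) i) 3510 := by
  rw [← show cfg22.n = 3510 from rfl, ← ncard_image (ctxA M), nf]
  congr 1
  ext d
  constructor
  · rintro ⟨hd, e⟩
    obtain ⟨i, hi, rfl⟩ := M.exists_x hd
    exact ⟨i, ⟨hi, Nat.beq_eq.mpr (M.x_inj (r i hi).1 hi ((r i hi).2.symm.trans e))⟩, rfl⟩
  · rintro ⟨i, ⟨hi, e⟩, rfl⟩
    exact ⟨M.x_mem hi, (r i hi).2.trans (by rw [Nat.beq_eq.mp e])⟩

theorem nf_a {W : List ℕ} (h : vA W = true) : nf D (a M W) = fixCnt W := nf_rep M (rep_a M h)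
theorem nf_w {W : List ℕ} (h : vG W = true) : nf D (MulAut.conj (w M W)) = fixCnt W := by
  rw [← a_eq_conj M h, nf_a M (vA_of_vG h)]

theorem nf_conj {φ ψ : MulAut G} (h : ψ ∈ AD D) : nf D (ψ * φ * ψ⁻¹) = nf D φ := by
  rw [nf, nf, ← Set.ncard_image_of_injective {d | d ∈ D ∧ φ d = d} ψ.injective]
  congr 1
  ext d
  constructor
  · rintro ⟨hd, e⟩
    refine ⟨ψ⁻¹ d, ⟨((AD D).inv_mem h d).2 hd, ψ.injective ?_⟩, by simp⟩
    simpa using e
  · rintro ⟨y, ⟨hy, e⟩, rfl⟩
    exact ⟨(h y).2 hy, by simp [e]⟩

theorem conj_map (ψ : MulAut G) (g : G) : ψ * MulAut.conj g * ψ⁻¹ = MulAut.conj (ψ g) := by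
  ext y; simp

theorem nf_map {ψ : MulAut G} (h : ψ ∈ AD D) (g : G) : nf D (MulAut.conj (ψ g)) = nf D (MulAut.conj g) := by
  rw [← conj_map, nf_conj h]

include M in
theorem nf1 {a : G} (h : a ∈ D) : nf D (MulAut.conj a) = 694 := by
  obtain ⟨M', rfl⟩ := model1 M h
  rw [← w_one, nf_w M' (by decide +kernel), fc1]

include M in
theorem nf2 {a b : G} (h : Pr D a b) : nf D (MulAut.conj (a * b)) = 182 := by
  obtain ⟨M', rfl, rfl⟩ := model2 M h
  rw [← w_two, nf_w M' (by decide +kernel), fc2]

include M in
theorem nf3 {a b c : G} (h : Tri D a b c) : nf D (MulAut.conj (a * b * c)) = 54 := by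
  obtain ⟨M', rfl, rfl, rfl⟩ := model3 M h
  rw [← w_three, nf_w M' (by decide +kernel), fc3]

/-! ### factorisations -/

theorem commute_of_mul (T : TT D) {a b y : G} (h : Pr D a b) (hy : y ∈ D) (hc : Commute y (a * b)) :
    Commute y a ∧ Commute y b := by
  have key : ∀ {a b : G}, Pr D a b → Commute y (a * b) → Commute y a := by
    intro a b h hc
    by_contra hn
    have e1 : a * y * a = b * y * b := by
      have := hc.eq
      calc a * y * a = a * (y * (a * b)) * b := by simp [mul_assoc, T.mul_self h.m2]
        _ = a * (a * b * y) * b := by rw [this]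
        _ = _ := by simp [mul_assoc, mul_self_cancel (T.mul_self h.m1)]
    have hn' : ¬ Commute y b := fun e => hn (by
      rw [(T.commute_iff h.m2 y).1 e.symm] at e1
      exact ((T.commute_iff h.m1 y).2 e1).symm)
    have b1 := T.braid h.m1 hy fun e => hn e.symm
    have b2 := T.braid h.m2 hy fun e => hn' e.symm
    rw [b1, b2] at e1
    exact h.ne (mul_left_cancel (mul_right_cancel e1))
  exact ⟨key h hc, key h.symm (h.cm.eq ▸ hc)⟩

include M in
theorem pair_unique {a b c d : G} (h : Pr D a b) (h' : Pr D c d) (e : a * b = c * d) :
    (a = c ∧ b = d) ∨ (a = d ∧ b = c) := by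
  have T := M.tt
  by_cases h1 : a = c
  · subst h1; exact Or.inl ⟨rfl, mul_left_cancel e⟩
  by_cases h2 : a = d
  · subst h2; rw [h'.cm.eq] at e; exact Or.inr ⟨rfl, mul_left_cancel e⟩
  have hc := commute_of_mul T h' h.m1 (e ▸ (Commute.refl a).mul_right h.cm)
  have h3 := nf3 M (⟨⟨h.m1, h'.m1, h1, hc.1⟩, ⟨h.m1, h'.m2, h2, hc.2⟩, h'⟩ : Tri D a c d)
  rw [mul_assoc, ← e, mul_self_cancel (T.mul_self h.m1), nf1 M h.m2] at h3
  omega

include M in
theorem in3_of_in3 {a b c p q r : G} (h : Tri D a b c) (h' : Tri D p q r) (e : a * b * c = p * q * r)
    (ha : In3 a p q r) : In3 b p q r ∧ In3 c p q r := by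
  have key : ∀ {q r : G}, Tri D a q r → a * b * c = a * q * r → (b = q ∨ b = r) ∧ (c = q ∨ c = r) := by
    intro q r h' e
    rw [mul_assoc, mul_assoc] at e
    rcases pair_unique M h.p23 h'.p23 (mul_left_cancel e) with ⟨rfl, rfl⟩ | ⟨rfl, rfl⟩ <;> simp
  unfold In3 at *
  rcases ha with rfl | rfl | rfl
  · have := key h' e; tauto
  · have := key h'.swap (e.trans h'.swap_eq.symm); tauto
  · have := key h'.rot (e.trans h'.rot_eq.symm); tauto

theorem tri_std : Tri D (M.x 43) (M.x 47) (M.x 172) := tri_of_okP M (by decide +kernel)
theorem tri_std' : Tri D (M.x 424) (M.x 59) (M.x 155) := tri_of_okP M (by decide +kernel)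
theorem hex_std : M.x 43 * M.x 47 * M.x 172 = M.x 424 * M.x 59 * M.x 155 := by
  rw [← w_three, ← w_three]; exact w_eq M (by decide +kernel) (by decide +kernel) (by decide +kernel)

theorem in_hex {a b c : G} (h : Tri D a b c) (e : a * b * c = M.x 43 * M.x 47 * M.x 172) :
    In3 a (M.x 43) (M.x 47) (M.x 172) ∨ In3 a (M.x 424) (M.x 59) (M.x 155) := by
  obtain ⟨i, hi, rfl⟩ := M.exists_x h.p12.m1
  have hc : Commute (w M [43, 47, 172]) (M.x i) := by
    rw [w_three, ← e]
    exact ((Commute.refl _).mul_left h.p12.cm.symm).mul_left h.p13.cm.symm
  rw [commute_of_rep M (rep_w M (by decide +kernel)) hi] at hc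
  have h1 := (allLt_iff _ _).1 fix3_chk i hi
  simp only [bimp_eq_true, bor_eq_true, Nat.beq_eq, memL_iff] at h1
  rcases h1 hc with h2 | h2
  · simp only [hexL, List.mem_cons, List.not_mem_nil, or_false] at h2
    unfold In3
    rcases h2 with rfl | rfl | rfl | rfl | rfl | rfl <;> simp
  · exfalso
    obtain ⟨g, hg, e1⟩ := reach4 M i hi h2
    have h3 := nf_map (conj_mem_AD M g) (w M [1062, 43, 47, 172])
    have f : ∀ j ∈ hexL, MulAut.conj g (M.x j) = M.x j := hg
    have e2 : MulAut.conj g (M.x 1062) = M.x i := e1
    rw [nf_w M (by decide +kernel), fc4, w_cons, w_three, map_mul (MulAut.conj g), map_mul (MulAut.conj g),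
      map_mul (MulAut.conj g), e2, f 43 (by decide),
      f 47 (by decide), f 172 (by decide), ← e, mul_assoc, mul_self_cancel (x_sq M hi), nf2 M h.p23] at h3
    omega

theorem in3_rev {u v w a b c y : G} (h : Tri D u v w) (h1 : In3 u a b c) (h2 : In3 v a b c) (h3 : In3 w a b c)
    (hy : In3 y a b c) : In3 y u v w := by
  have n1 := h.p12.ne
  have n2 := h.p13.ne
  have n3 := h.p23.ne
  unfold In3 at *
  rcases h1 with rfl | rfl | rfl <;> rcases h2 with rfl | rfl | rfl <;> rcases h3 with rfl | rfl | rfl <;> tauto

include M in
theorem hex {p q r u v w a b c : G} (h1 : Tri D p q r) (h2 : Tri D u v w) (e : p * q * r = u * v * w)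
    (hu : ¬ In3 u p q r) (h : Tri D a b c) (e' : a * b * c = p * q * r) : In3 a p q r ∨ In3 a u v w := by
  obtain ⟨M', rfl, rfl, rfl⟩ := model3 M h1
  have h3 := (in_hex M' h2 e.symm).resolve_left hu
  have h4 := in3_of_in3 M h2 (tri_std' M') (e.symm.trans (hex_std M')) h3
  exact (in_hex M' h e').imp_right (in3_rev h2 h3 h4.1 h4.2)

include M in
theorem hexfix {φ : MulAut G} (hφ : φ ∈ AD D) {p q r u v w : G} (h1 : Tri D p q r) (h2 : Tri D u v w)
    (e : p * q * r = u * v * w) (hu : ¬ In3 u p q r) (f1 : φ p = p) (f2 : φ q = q) (f3 : φ r = r) :
    In3 (φ u) u v w := by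
  refine (hex M h1 h2 e hu (h2.map hφ) (by rw [← map_mul, ← map_mul, ← e, map_mul, map_mul, f1, f2, f3])).resolve_left
    fun h => hu ?_
  rw [← f1, ← f2, ← f3] at h
  exact h.imp (fun e => φ.injective e) (Or.imp (fun e => φ.injective e) fun e => φ.injective e)

theorem hexOk_spec {p q r u v w : ℕ} (h : hexOk p q r u v w = true) {φ : MulAut G} (hφ : φ ∈ AD D)
    (f1 : φ (M.x p) = M.x p) (f2 : φ (M.x q) = M.x q) (f3 : φ (M.x r) = M.x r) :
    ∃ j ∈ [u, v, w], j < 3510 ∧ φ (M.x u) = M.x j := by
  simp only [hexOk, band_eq_true, bnot_eq_true, memL_iff] at h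
  obtain ⟨a1, a2, a3, a4⟩ := h
  have b1 := (okP_spec M a1).1
  have b2 := (okP_spec M a2).1
  have := hexfix M hφ (tri_of_okP M a1) (tri_of_okP M a2) (by
    rw [← w_three, ← w_three]
    exact w_eq M ((vG_iff _).2 b1) ((vG_iff _).2 b2) a3) (fun h => a4 (by
      have hu := b2 u (by simp)
      rcases h with e | e | e
      · simp [M.x_inj hu (b1 p (by simp)) e]
      · simp [M.x_inj hu (b1 q (by simp)) e]
      · simp [M.x_inj hu (b1 r (by simp)) e])) f1 f2 f3
  rcases this with e | e | e
  · exact ⟨u, by simp, b2 u (by simp), e⟩
  · exact ⟨v, by simp, b2 v (by simp), e⟩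
  · exact ⟨w, by simp, b2 w (by simp), e⟩

/-- an automorphism fixing the hexad and a seventh point fixes the base -/
theorem fix_base {φ : MulAut G} (hφ : φ ∈ AD D) (h : φ ∈ Fx (MulAut G) M.x (1062 :: hexL)) :
    φ ∈ Fx (MulAut G) M.x BL := by
  intro i hi
  have h1 := (allL_iff _ _).1 st_chk i hi
  simp only [bor_eq_true, memL_iff, anyL_iff, band_eq_true, Nat.beq_eq, stOk, nodupB_iff] at h1
  rcases h1 with h1 | ⟨e, -, rfl, a1, a2, a3, a4, a5, a6, a7⟩
  · exact h i h1
  · have f : ∀ j ∈ hexL, φ (M.x j) = M.x j := fun j hj => h j (List.mem_cons_of_mem _ hj)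
    have f' : φ (M.x 1062) = M.x 1062 := h _ List.mem_cons_self
    obtain ⟨j, hj, lj, e1⟩ := hexOk_spec M a5 hφ (f _ a1) (f _ a2) f'
    obtain ⟨k, hk, lk, e2⟩ := hexOk_spec M a6 hφ (f _ a3) (f _ a4) f'
    have := M.x_inj lj lk (e1.symm.trans e2)
    subst this
    have : j = nth e 0 := by
      simp only [List.nodup_cons, List.mem_cons, List.not_mem_nil, or_false, not_or] at a7 hj hk
      omega
    exact this ▸ e1

theorem BL_lt {i : ℕ} (h : i ∈ BL) : i < 3510 := (vG_iff BL).1 (by decide +kernel) i h

theorem map_w {φ : MulAut G} {W : List ℕ} (h : ∀ j ∈ W, φ (M.x j) = M.x j) : φ (w M W) = w M W := by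
  induction W with
  | nil => exact map_one φ
  | cons j W ih =>
    rw [w_cons, map_mul, h j List.mem_cons_self, ih fun k hk => h k (List.mem_cons_of_mem _ hk)]

theorem eq_one_of_base {φ : MulAut G} (h : φ ∈ Fx (MulAut G) M.x (75 :: BL)) : φ = 1 := by
  refine aut_ext M fun i hi => ?_
  have h1 := (allL_iff _ _).1 cl_chk i hi
  simp only [memL_iff, anyL_iff, band_eq_true, Nat.beq_eq, allL_iff] at h1
  obtain ⟨W, -, rfl, a1, a2⟩ := h1
  have lt : ∀ j ∈ 75 :: BL, j < 3510 := (vG_iff _).1 (by decide +kernel)
  have r := rep_w M ((vG_iff W.tail).2 fun j hj => lt j (a2 j hj))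
  rw [← (RepF.conj M r (lt _ a1)).2, map_mul, map_mul, map_inv, map_w M fun j hj => h j (a2 j hj),
    show φ (M.x (W.headD 0)) = _ from h _ a1]
  rfl

theorem BL_comm {i j : ℕ} (hi : i ∈ BL) (hj : j ∈ BL) : Commute (M.x i) (M.x j) :=
  (okP_spec M BL_ok).2.2 i hi j hj

theorem outP_iff {i : ℕ} (hi : i < 3510) : outP i = true ↔ ∀ j ∈ BL, ¬ Commute (M.x j) (M.x i) := by
  rw [outP, allL_iff]
  exact forall₂_congr fun j hj => by rw [bnot_eq_true, cm_iff M (BL_lt hj) hi]

theorem bw_spec {i : ℕ} (hi : i < 3510) (h : outP i = true) :
    (∀ j ∈ bw i, j ∈ BL) ∧ (bw i).Nodup ∧ (bw i).length ≤ 3 ∧ evw (bw i) 75 = i := by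
  have h1 := (allLt_iff _ _).1 bw_chk i hi
  simpa only [h, bimp_eq_true, band_eq_true, allL_iff, memL_iff, nodupB_iff, Nat.ble_eq, len_eq, Nat.beq_eq,
    forall_const] using h1

theorem vG_bw {i : ℕ} (hi : i < 3510) (h : outP i = true) : vG (bw i) = true :=
  (vG_iff _).2 fun j hj => BL_lt ((bw_spec hi h).1 j hj)

theorem x_mem_FxB {j : ℕ} (hj : j ∈ BL) : M.x j ∈ Fx G M.pt BL :=
  (mem_Fx_iff M).2 fun _ hi => BL_comm M hj hi

theorem bw_mem {i : ℕ} (hi : i < 3510) (h : outP i = true) : w M (bw i) ∈ Fx G M.pt BL :=
  w_mem M fun j hj => x_mem_FxB M ((bw_spec hi h).1 j hj)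

theorem out_cand {φ : MulAut G} (hφ : φ ∈ AD D) (h : φ ∈ Fx (MulAut G) M.x BL) :
    ∃ i, i < 3510 ∧ outP i = true ∧ φ (M.x 75) = M.x i := by
  obtain ⟨i, hi, e⟩ := AD_x M hφ (i := 75) (by norm_num)
  refine ⟨i, hi, (outP_iff M hi).2 fun j hj hc => ?_, e⟩
  rw [← e, ← show φ (M.x j) = _ from h j hj] at hc
  exact (outP_iff M (i := 75) (by norm_num)).1 (by decide +kernel) j hj ((commute_map_iff φ.injective).1 hc)

/-- automorphisms preserving `D` and fixing the base pointwise are inner, induced by products of at most
three members of the base -/
theorem base_aut {φ : MulAut G} (hφ : φ ∈ AD D) (h : φ ∈ Fx (MulAut G) M.x BL) :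
    ∃ i, i < 3510 ∧ outP i = true ∧ φ (M.x 75) = M.x i ∧ φ = MulAut.conj (w M (bw i)) := by
  obtain ⟨i, hi, ho, e⟩ := out_cand M hφ h
  refine ⟨i, hi, ho, e, ?_⟩
  have : (MulAut.conj (w M (bw i)))⁻¹ * φ = 1 := eq_one_of_base M (by
    rw [Fx_cons, Subgroup.mem_inf]
    refine ⟨mul_mem (inv_mem ((conj_mem_Fx M).2 (bw_mem M hi ho))) h, ?_⟩
    rw [MulAction.mem_stabilizer_iff, mul_smul, inv_smul_eq_iff]
    have := (rep_w M (vG_bw hi ho) 75 (by decide)).2
    rw [(bw_spec hi ho).2.2.2] at this
    exact e.trans (CPt.smul_eq_iff.1 this).symm)
  exact (inv_mul_eq_one.1 this).symm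

theorem base_elt {g : G} (h : g ∈ Fx G M.pt BL) :
    ∃ i, i < 3510 ∧ outP i = true ∧ g * M.x 75 * g⁻¹ = M.x i ∧ g = w M (bw i) := by
  obtain ⟨i, hi, ho, e, e'⟩ := base_aut M (conj_mem_AD M g) h
  exact ⟨i, hi, ho, e, conj_injective M e'⟩

/-! ### orders -/

theorem F7_eq : Fx G M.pt (1062 :: hexL) = Fx G M.pt BL :=
  le_antisymm (fun g hg => fix_base M (conj_mem_AD M g) hg) (Fx_mono (by decide))

theorem card_B : Nat.card (Fx G M.pt BL) = 1024 := by
  rw [card_eq_of M.ctx _ (M.pt 75) outP cnt5 (fun g hg => out_cand M (conj_mem_AD M g) hg) fun i hi ho =>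
    ⟨_, bw_mem M hi ho, by
      have := (rep_w M (vG_bw hi ho) 75 (by decide)).2
      rwa [(bw_spec hi ho).2.2.2] at this⟩, ← Fx_cons]
  have : Fx G M.pt (75 :: BL) = ⊥ := eq_bot_iff.2 fun g hg =>
    conj_injective M ((eq_one_of_base M hg).trans (map_one _).symm)
  rw [this]; simp

theorem card_F6 : Nat.card (Fx G M.pt hexL) = 49152 := by
  rw [card_eq_of M.ctx _ (M.pt 1062) _ cnt4 (fun g hg => cand M (conj_mem_AD M g) (by decide +kernel)
    (Fx_mono (l' := hexL) (by decide) hg) hg (by norm_num) (by decide +kernel)) (reach4 M),
    ← Fx_cons, F7_eq, card_B]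

theorem card_F1 : Nat.card (Fx G M.pt [43]) = 18393661440 := by
  have := card_eq_of M.ctx (⊤ : Subgroup G) (M.pt 43) (fun _ => true) (N := 3510) (by decide +kernel)
    (fun g _ => by
      obtain ⟨j, hj, e⟩ := AD_x M (conj_mem_AD M g) (i := 43) (by norm_num)
      exact ⟨j, hj, rfl, e⟩) fun i hi _ => by
      obtain ⟨g, e⟩ := trans1 M (M.x_mem hi)
      exact ⟨g, trivial, e⟩
  rw [Subgroup.card_top, M.card, ← Fx_nil (pt := M.pt), ← Fx_cons] at this
  omega

theorem card_F2 : Nat.card (Fx G M.pt [47, 43]) = 26542080 := by
  have := card_eq_of M.ctx _ (M.pt 47) _ cnt1 (fun g hg => cand M (conj_mem_AD M g) (by decide +kernel)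
    hg hg (by norm_num) (by decide +kernel)) (reach1 M)
  rw [card_F1, ← Fx_cons] at this
  omega

theorem card_F3 : Nat.card (Fx G M.pt [172, 47, 43]) = 147456 := by
  have := card_eq_of M.ctx _ (M.pt 172) _ cnt2 (fun g hg => cand M (conj_mem_AD M g) (by decide +kernel)
    hg hg (by norm_num) (by decide +kernel)) (reach2 M)
  rw [card_F2, ← Fx_cons] at this
  omega

theorem cand3 {φ : MulAut G} (hφ : φ ∈ AD D) (h : φ ∈ Fx (MulAut G) M.x [172, 47, 43]) :
    ∃ j ∈ [424, 59, 155], j < 3510 ∧ φ (M.x 424) = M.x j :=
  hexOk_spec M (p := 43) (q := 47) (r := 172) (by decide +kernel) hφ (h _ (by simp)) (h _ (by simp)) (h _ (by simp))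

theorem card_F4 : Nat.card (Fx G M.pt [424, 172, 47, 43]) = 49152 := by
  have := card_eq_of M.ctx _ (M.pt 424) _ cnt3 (fun g hg => by
    obtain ⟨j, hj, a, b⟩ := cand3 M (conj_mem_AD M g) hg
    exact ⟨j, a, (memL_iff _ _).2 hj, b⟩) (reach3 M)
  rw [card_F3, ← Fx_cons] at this
  omega

theorem F4_eq : Fx G M.pt [424, 172, 47, 43] = Fx G M.pt hexL := by
  have := M.finite
  exact (Subgroup.eq_of_le_of_card_ge (Fx_mono (by decide)) (by rw [card_F4, card_F6])).symm

theorem sig_not_inner (g : G) : MulAut.conj g ≠ sig M := by
  intro e
  have h1 : MulAut.conj g ∈ Fx (MulAut G) M.x [424, 172, 47, 43] :=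
    e ▸ mem_Fx_of_rep (rep_sig M) (by decide +kernel)
  rw [conj_mem_Fx, F4_eq, ← conj_mem_Fx, e] at h1
  have h2 : sig M (M.x 59) = M.x 59 := h1 59 (by decide)
  rw [sig_x M (by norm_num)] at h2
  exact absurd (M.x_inj (dlt_lt (by norm_num)) (by norm_num) h2) (by decide +kernel)

/-- every automorphism preserving `D` is inner or inner times `σ` -/
theorem AD_cases {φ : MulAut G} (hφ : φ ∈ AD D) : ∃ g, φ = MulAut.conj g ∨ φ = MulAut.conj g * sig M := by
  have step : ∀ {φ : MulAut G} (g : G), (∃ g', MulAut.conj g⁻¹ * φ = MulAut.conj g' ∨
      MulAut.conj g⁻¹ * φ = MulAut.conj g' * sig M) → ∃ g, φ = MulAut.conj g ∨ φ = MulAut.conj g * sig M := by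
    rintro φ g ⟨g', h⟩
    refine ⟨g * g', ?_⟩
    rw [map_inv, inv_mul_eq_iff_eq_mul, inv_mul_eq_iff_eq_mul] at h
    rw [map_mul, mul_assoc]; exact h
  have mem : ∀ {φ : MulAut G} (g : G), φ ∈ AD D → MulAut.conj g⁻¹ * φ ∈ AD D :=
    fun g h => mul_mem (conj_mem_AD M _) h
  have nxt : ∀ {φ : MulAut G} {g : G} {l : List ℕ} {b i : ℕ}, φ ∈ Fx (MulAut G) M.x l → g ∈ Fx G M.pt l →
      g • M.pt b = M.pt i → φ (M.x b) = M.x i → MulAut.conj g⁻¹ * φ ∈ Fx (MulAut G) M.x (b :: l) := by
    intro φ g l b i h1 h2 e1 e2
    rw [Fx_cons, map_inv, Subgroup.mem_inf]
    refine ⟨mul_mem (inv_mem ((conj_mem_Fx M).2 h2)) h1, ?_⟩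
    rw [MulAction.mem_stabilizer_iff, mul_smul, inv_smul_eq_iff]
    exact e2.trans (CPt.smul_eq_iff.1 e1).symm
  have s6 : ∀ {φ : MulAut G}, φ ∈ AD D → φ ∈ Fx (MulAut G) M.x hexL → ∃ g, φ = MulAut.conj g := by
    intro φ hφ h
    obtain ⟨i, hi, hn, e⟩ := cand M hφ (l := [172, 47, 43]) (by decide +kernel)
      (Fx_mono (by decide) h) h (i := 1062) (by norm_num) (by decide +kernel)
    obtain ⟨g, hg, e'⟩ := reach4 M i hi hn
    obtain ⟨k, -, -, -, e2⟩ := base_aut M (mem g hφ) (fix_base M (mem g hφ) (nxt h hg e' e))
    rw [map_inv, inv_mul_eq_iff_eq_mul, ← map_mul] at e2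
    exact ⟨_, e2⟩
  have s4 : ∀ {φ : MulAut G}, φ ∈ AD D → φ ∈ Fx (MulAut G) M.x [424, 172, 47, 43] →
      ∃ g, φ = MulAut.conj g ∨ φ = MulAut.conj g * sig M := by
    intro φ hφ h
    have f : ∀ j ∈ [424, 172, 47, 43], φ (M.x j) = M.x j := h
    have e := congrArg φ (hex_std M)
    rw [map_mul, map_mul, map_mul, map_mul, f 43 (by simp), f 47 (by simp), f 172 (by simp), f 424 (by simp),
      hex_std, mul_assoc, mul_assoc] at e
    rcases pair_unique M (tri_std' M).p23 ((tri_std' M).p23.map hφ) (mul_left_cancel e) with
      ⟨e1, e2⟩ | ⟨e1, e2⟩
    · obtain ⟨g, hg⟩ := s6 hφ (by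
        rw [mem_FxA]
        simp only [hexL, List.forall_mem_cons]
        exact ⟨e2.symm, e1.symm, f _ (by simp), f _ (by simp), f _ (by simp), f _ (by simp), by simp⟩)
      exact ⟨g, Or.inl hg⟩
    · obtain ⟨g, hg⟩ := s6 (mul_mem hφ (sig_mem_AD M)) (by
        rw [mem_FxA]
        simp only [hexL, List.forall_mem_cons, MulAut.mul_apply]
        rw [sig_x M (by norm_num), sig_x M (by norm_num), sig_x M (by norm_num), sig_x M (by norm_num),
          sig_x M (by norm_num), sig_x M (by norm_num), show gt dlt 155 = 59 from by decide +kernel,
          show gt dlt 59 = 155 from by decide +kernel, show gt dlt 424 = 424 from by decide +kernel,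
          show gt dlt 172 = 172 from by decide +kernel, show gt dlt 47 = 47 from by decide +kernel,
          show gt dlt 43 = 43 from by decide +kernel]
        exact ⟨e2.symm, e1.symm, f _ (by simp), f _ (by simp), f _ (by simp), f _ (by simp), by simp⟩)
      refine ⟨g, Or.inr ?_⟩
      rw [← hg, mul_assoc, sig_sq, mul_one]
  obtain ⟨g, e1, e2, e3⟩ := trans3 M ((tri_std M).map hφ)
  refine step g ?_
  have h3 : MulAut.conj g⁻¹ * φ ∈ Fx (MulAut G) M.x [172, 47, 43] := by
    rw [mem_FxA]
    simp only [List.forall_mem_cons, MulAut.mul_apply]
    rw [← e1, ← e2, ← e3]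
    simp [mul_assoc]
  obtain ⟨j, hj, lj, e⟩ := cand3 M (mem g hφ) h3
  obtain ⟨u, hu, e'⟩ := reach3 M j lj ((memL_iff _ _).2 hj)
  exact step u (s4 (mem u (mem g hφ)) (nxt h3 hu e' e))

theorem auto_chain : True := by
  have := @In3.eq_1.{0}
  have := @IsProd.eq_1.{0}
  have := @AD.eq_1.{0}
  have := @nf.eq_1.{0}
  have := @tr.eq_1.{0}
  have := @hexL.eq_1
  have := @BL.eq_1
  have := @outP.eq_1
  have := @bw.eq_1
  have := @okP.eq_1
  have := @nbr.eq_1
  have := @cmL.eq_1
  have := @memL.eq_1
  have := @fixW.eq_1
  have := @gensG.eq_1
  have := @cover.eq_1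
  have := @fixCnt.eq_1
  have := @hexOk.eq_1
  trivial

end H96.F22
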